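import Cfsg.Agent.TO.F4.An
import Cfsg.Agent.TO.X.Mult

/-!
# S4817, exceptional groups: the row `F₄(q)`, `p = 3` (helper65)
-/

set_option autoImplicit false
set_option linter.unusedSectionVars false

namespace Cfsg.Agent.TO.F4

open Cfsg Cfsg.Lie Matrix Subgroup Cfsg.Agent.KZ.DatX Cfsg.Agent.TO.X Cfsg.Agent.ChevalleyStructure.CoxeterGeomTypes
open Cfsg.Agent.BHZ.Nil (KK)

theorem core (B : Blk) {r : ℕ} [Fact r.Prime] {k : Type} [Field k] [CharP k r] [IsAlgClosed k] {e : ℕ}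
    {X : XF hpF4 r k ((r : ℤ) ^ e • 1)} {G : Type} [Group G] [Finite G] (s : XS X (AdmF4 r) 1 G) (hr : 3 ≠ r)
    {M : Ideal AlgInt} {b : Set (IrrCharacter G)} {D : Subgroup G} (H : Two 3 M b D) (hG : commutator G = ⊤)
    {A : Subgroup (MulAut G)} (P : Pure 3 G A D) : False := by
  obtain ⟨ζ, hζ⟩ := exists_prim (r := r) k (n := 3) fun h =>
    hr ((Nat.prime_dvd_prime_iff_eq Fact.out Nat.prime_three).1 h).symm
  have h3 : ∀ d ∈ D, d ^ 3 = 1 := fun d hd => P.expo d (le_KK hd) (by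
    obtain ⟨j, hj⟩ := P.pg ⟨d, hd⟩
    exact FO.pElt_of_pow (congrArg Subtype.val hj))
  obtain ⟨z, hz, z1, h1, x, hx, h2, h4⟩ := exists_plane P.pg P.nc
  obtain ⟨E, u, v, hu, hv⟩ := exists_pair s hζ hr (h3 z hz) (h3 x hx) (h1 x hx)
  have hi := ind_of s hζ E hu hv z1 h2
  have u0 : u ≠ 0 := fun h => one_ne_zero (hi 1 0 (by rw [h, smul_zero, zero_smul, add_zero])).1
  have hc : ∀ (E' : Tor X) (w : V3), w ∈ vs s hζ E' (KK 3 D) → w ≠ 0 → Nm w = Nm u ∨ Nm w = -Nm u :=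
    fun E' w ⟨a, a1, a2⟩ w0 => (nm_cj Fact.out hr (cj_of_pure s hζ P E E' (le_KK hz) a1 hu a2 u0 w0)).imp id And.right
  have hm : ∀ (E' : Tor X) (w : V3), w ∈ vs s hζ E' D → w ∈ vs s hζ E' (KK 3 D) := fun E' w ⟨a, a1, a2⟩ => ⟨a, le_KK a1, a2⟩
  have m1 : u ∈ vs s hζ E D := ⟨z, hz, hu⟩
  have m2 : v ∈ vs s hζ E D := ⟨x, hx, hv⟩
  by_cases h0 : Nm u = 0
  · have hS : ∀ (E' : Tor X) (w : V3), w ∈ vs s hζ E' (KK 3 D) → Nm w = 0 := fun E' w hw => by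
      by_cases w0 : w = 0
      · rw [w0, nm_zero]
      · simpa only [h0, neg_zero, or_self] using hc E' w hw w0
    obtain ⟨W, hW, h5, h6⟩ := std1 h0 (hS E v (hm E v m2)) (hS E _ (hm E _ (add_mem m1 m2)))
    obtain ⟨E', -, h7⟩ := E.exists_move_e hζ hW
    rw [← h7] at hu hv
    refine sing B hr H hG P.pg h3 hS (E := E') fun w hw => ?_
    obtain ⟨i, j, rfl⟩ := span1 h5 h6 (ind_of s hζ E' hu hv z1 h2) hw
    exact add_mem (Submodule.smul_mem _ _ ⟨z, hz, hu⟩) (Submodule.smul_mem _ _ ⟨x, hx, hv⟩)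
  · have hA : ∀ (E' : Tor X) (w : V3), w ∈ vs s hζ E' D → w ≠ 0 → Nm w ≠ 0 := fun E' w hw w0 h =>
      (hc E' w (hm E' w hw) w0).elim (fun h5 => h0 (h5.symm.trans h)) fun h5 => h0 (neg_eq_zero.1 (h5.symm.trans h))
    obtain ⟨W, hW, h5, h6⟩ := std0 h0 (hA E v m2 fun h => one_ne_zero (hi 0 1 (by rw [h, smul_zero, zero_smul, add_zero])).2)
      (hA E _ (add_mem m1 m2) fun h => one_ne_zero (hi 1 1 (by rwa [one_smul, one_smul])).1)
      (hA E _ (sub_mem m1 m2) fun h => one_ne_zero (hi 1 (-1) (by rwa [one_smul, neg_one_smul, ← sub_eq_add_neg])).1)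
    obtain ⟨E', -, h7⟩ := E.exists_move_e hζ hW
    have h8 : ∀ d ∈ D, d * x = x * d := fun d hd => by
      have h9 : ∀ d ∈ D, ∀ j : ZMod 3, d * x * d⁻¹ * x⁻¹ = z ^ j.val → Nm (j • u + v) = Nm v := fun d hd j h =>
        nm_conj hζ E (y := s.ι d) (by
          rw [← hv, ← map_inv, ← map_mul, ← map_mul, mul_inv_eq_iff_eq_mul.1 h, E.e_add hζ, E.e_smul hζ, map_mul, map_pow,
            hu, hv])
      obtain ⟨n, hn⟩ := (mem_powers_iff_mem_zpowers.2 (h4 d hd) : _ ∈ Submonoid.powers z)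
      have h10 : d * x * d⁻¹ * x⁻¹ = z ^ (n : ZMod 3).val := by
        rw [ZMod.val_natCast, ← hn, ← pow_eq_pow_mod n (h3 z hz)]
      have h11 : d⁻¹ * x * d⁻¹⁻¹ * x⁻¹ = z ^ (-n : ZMod 3).val := by
        have h12 : z ^ (-n : ZMod 3).val = (z ^ (n : ZMod 3).val)⁻¹ := ι_inj s (by
          rw [map_inv, map_pow, map_pow, hu, ← E.e_smul hζ, ← E.e_smul hζ, neg_smul, E.e_neg hζ])
        have h13 : Commute (z ^ (n : ZMod 3).val) d := Commute.pow_left (h1 d hd) _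
        rw [h12, inv_inv, eq_comm, inv_eq_iff_mul_eq_one, ← mul_assoc, ← mul_assoc, ← mul_assoc, h13.inv_right.eq,
          mul_assoc d⁻¹, ← mul_inv_eq_iff_eq_mul.1 h10]
        group
      have h12 := nm_par ((n : ZMod 3) • u) v
      rw [add_comm v, h9 d hd _ h10, sub_eq_neg_add, ← neg_smul, h9 _ (inv_mem hd) _ h11, nm_smul] at h12
      have h13 : ∀ a c n : ZMod 3, c ≠ 0 → a + a = 2 * a + 2 * (n * n * c) → n = 0 := by decide
      rw [h13 _ _ _ h0 h12, ZMod.val_zero, pow_zero] at h10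
      exact mul_inv_eq_iff_eq_mul.1 (mul_inv_eq_one.1 h10)
    rw [← h7] at hu hv
    have hi' := ind_of s hζ E' hu hv z1 h2
    have hB : ∀ w ∈ B0, w ∈ vs s hζ E' D := fun w hw => by
      obtain ⟨i, j, rfl⟩ := span0 h5 h6 hi' hw
      exact add_mem (Submodule.smul_mem _ _ ⟨z, hz, hu⟩) (Submodule.smul_mem _ _ ⟨x, hx, hv⟩)
    refine aniso B ?_ H P.pg hB fun d hd => eq_B0 hr hA hB h3 hd ?_
    · exact (nm_cj Fact.out hr (pureSp s hζ P E' _ (hm _ _ (hB ![1, 0, 0, 0] ⟨rfl, rfl⟩)) _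
        (hm _ _ (hB ![0, 0, 0, 1] ⟨rfl, rfl⟩)) (by decide) (by decide))).elim (fun h => absurd h (by decide)) And.left
    · rintro _ ⟨w, hw, rfl⟩
      obtain ⟨i, j, rfl⟩ := span0 h5 h6 hi' hw
      rw [← e_lin s hζ E' hu hv, ← map_mul, ← map_mul]
      exact congrArg _ ((Commute.pow_left (h1 d hd) _).mul_left (Commute.pow_left (h8 d hd).symm _)).eq

/-- **`F₄(q)`, `p = 3`** -/
theorem f4_three (B : Blk) : RF4 3 := by
  intro F _ _ r e _ _ hF hq hr G _ _ σ M b D H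
  have hb := (zd_F4 (hF ▸ hq)).inj H
  have h1 : Has hpF4 r ((r : ℤ) ^ e • 1) (AdmF4 r) 1 ↥(chevF4.group F) := by
    by_cases h2 : r = 2
    · subst h2
      exact (has_F4two hF).mono fun A hA => .inr ⟨rfl, hA⟩
    · exact (has_F4 hF h2).mono fun A hA => .inl hA
  obtain ⟨k, _, _, _, X, ⟨s⟩⟩ := h1.congr (MulEquiv.ofBijective σ hb)
  have P := B.pure G 3 M b D G (MonoidHom.id G)
    { toTwo := H.toTwo, perf := H.perf, surj := Function.surjective_id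
      ker := MonoidHom.ker_id.trans (((MonoidHom.ker_eq_bot_iff σ).2 hb.1).symm.trans H.ker)
      zp := H.zp, cyc := H.cyc, faith := H.faith }
  rw [Subgroup.map_id] at P
  exact core B s hr H.toTwo H.perf P

end Cfsg.Agent.TO.F4
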