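import Cfsg.Agent.TO.F4.Sing

/-!
# S4817, `F₄`, `p = 3`: the anisotropic plane (helper65)
-/

set_option autoImplicit false
set_option linter.unusedSectionVars false

namespace Cfsg.Agent.TO.F4

open CoxeterSystem Cfsg Cfsg.Lie Matrix Subgroup Cfsg.Agent.KZ.DatX Cfsg.Agent.KZ.McX Cfsg.Agent.TO.X Cfsg.Agent.Nodes
  Cfsg.Agent.ChevalleyStructure.CoxeterGeomTypes Cfsg.Agent.ChevalleyStructure.CoxeterGeom Cfsg.Agent.Tits.Roots
  Cfsg.Agent.DL Cfsg.Agent.Nodes.Coroot Cfsg.Agent.Nodes.RGDChev Cfsg.Agent.KFacts.RgdChevCoord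
  Cfsg.Agent.ChevalleyStructure
open Cfsg.Agent.BHZ.Nil (KK)
open scoped commutatorElement

variable {r : ℕ} [Fact r.Prime] {k : Type} [Field k] [CharP k r] [IsAlgClosed k] {e : ℕ}
  {X : XF hpF4 r k ((r : ℤ) ^ e • 1)} {Adm : Matrix (Fin 4) (Fin 4) ℤ → Prop} {G : Type} [Group G] [Finite G]
  {s : XS X Adm 1 G} {ζ : kˣ} {hζ : IsPrimitiveRoot ζ 3} {D : Subgroup G} {E : Tor X}

theorem sr_mem (hζ : IsPrimitiveRoot ζ 3) (E : Tor X) {i : Fin 4} (hi : i = 1 ∨ i = 2) :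
    sr i ∈ E.Sz (E.e ζ '' B0) := by
  refine (E.mem_Sz_e hζ).2 ⟨(E.rt_iff _).1 (isRoot_sr _ _ i), fun v hv => ?_⟩
  have h : vl (sr i) v = v i := by simp [vl, sr, Pi.single_apply]
  rcases hi with rfl | rfl
  exacts [h.trans hv.1, h.trans hv.2]

/-- the centraliser of the plane is connected -/
theorem cen0 (hζ : IsPrimitiveRoot ζ 3) {y : ↥(chevF4.group k)} (hy : y ∈ centralizer (E.e ζ '' B0)) :
    y ∈ E.cen (E.e ζ '' B0) := by
  obtain ⟨c, hc, v, m, hm, h1, rfl⟩ := E.exists_cen_form (sub_T E B0) hy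
  obtain ⟨L, hL, rfl⟩ := fix0 (X := X) (w := v) fun u hu => E.e_inj hζ (by
    rw [← E.conj_e hζ hm, ← h1 _ ⟨u, hu, rfl⟩, mul_inv_cancel_right])
  have h2 : CoxeterMatrix.F₄.toCoxeterSystem.wordProd L ∈ closure (E.rf '' E.Sz (E.e ζ '' B0)) := by
    clear hm
    induction L with
    | nil => rw [wordProd_nil]; exact one_mem _
    | cons i L ih =>
      rw [wordProd_cons]
      exact mul_mem (subset_closure ⟨_, sr_mem hζ E (hL i List.mem_cons_self), E.D.rf_sr i⟩)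
        (ih fun j hj => hL j (List.mem_cons_of_mem _ hj))
  obtain ⟨m', h3, h4⟩ := E.exists_rp_cen h2
  have h5 := h4.inv.mul hm
  rw [inv_mul_cancel, E.rp_one_iff] at h5
  have h6 := mul_mem h3 (E.D.T_le_cen _ h5)
  rw [mul_inv_cancel_left] at h6
  exact mul_mem (E.D.S_le_cen _ hc) h6

theorem eq_B0 (hr : 3 ≠ r) (hA : ∀ (E : Tor X) (v : V3), v ∈ vs s hζ E D → v ≠ 0 → Nm v ≠ 0)
    (hB : ∀ v ∈ B0, v ∈ vs s hζ E D) (h3 : ∀ d ∈ D, d ^ 3 = 1) {d : G} (hd : d ∈ D)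
    (hc : s.ι d ∈ centralizer (E.e ζ '' B0)) : ∃ v ∈ B0, s.ι d = E.e ζ v := by
  obtain ⟨E', h1, h2⟩ := E.exists_tor_cen (sub_T E B0) (by
    rintro _ ⟨v, hv, rfl⟩
    obtain ⟨a, -, h⟩ := hB v hv
    exact ⟨v, hv, by rw [← h, F_ι]⟩) (cen0 hζ hc) (F_ι s d) (ss s hr (h3 d hd))
  obtain ⟨z, hz, e1⟩ := hB ![1, 0, 0, 0] ⟨rfl, rfl⟩
  obtain ⟨x, hx, e2⟩ := hB ![0, 0, 0, 1] ⟨rfl, rfl⟩
  obtain ⟨u, hu⟩ := E'.exists_e hζ (h1 ⟨_, ⟨rfl, rfl⟩, e1.symm⟩) (by rw [e1, E.e_pow hζ])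
  obtain ⟨w, hw⟩ := E'.exists_e hζ (h1 ⟨_, ⟨rfl, rfl⟩, e2.symm⟩) (by rw [e2, E.e_pow hζ])
  obtain ⟨v, hv⟩ := E'.exists_e hζ h2 (by rw [← map_pow, h3 d hd, map_one])
  obtain ⟨i, j, l, h4, h5⟩ := tern u w v
  have h6 : i • u + j • w + l • v = 0 := by_contra fun h => hA E' _ (add_mem (add_mem
    (Submodule.smul_mem _ _ ⟨z, hz, hu.symm⟩) (Submodule.smul_mem _ _ ⟨x, hx, hw.symm⟩))
    (Submodule.smul_mem _ _ ⟨d, hd, hv.symm⟩)) h h5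
  have h7 : ∀ a b : ZMod 3, E'.e ζ (a • u + b • w) = E.e ζ (a • (![1, 0, 0, 0] : V3) + b • ![0, 0, 0, 1]) :=
    fun a b => (e_lin s hζ E' hu.symm hw.symm a b).symm.trans (e_lin s hζ E e1 e2 a b)
  by_cases h8 : l = 0
  · rw [h8, zero_smul, add_zero] at h6
    have h9 := h7 i j
    rw [h6, E'.e_zero hζ, eq_comm, E.e_eq_one hζ] at h9
    exact absurd ⟨by simpa using congrFun h9 0, by simpa using congrFun h9 3, h8⟩ h4
  · have h9 : ∀ l : ZMod 3, l ≠ 0 → l * l = 1 := by decide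
    have h10 : v = (-(l * i)) • u + (-(l * j)) • w := by
      rw [neg_smul, neg_smul, ← neg_add, mul_smul, mul_smul, ← smul_add, eq_neg_of_add_eq_zero_left h6, smul_neg,
        neg_neg, smul_smul, h9 l h8, one_smul]
    exact ⟨(-(l * i)) • (![1, 0, 0, 0] : V3) + (-(l * j)) • ![0, 0, 0, 1], ⟨by simp, by simp⟩, by rw [← hv, h10, h7]⟩

theorem cor_mem (E : Tor X) {a : Fin 4 → ℤ} {P : Set (Fin 4 → ℤ)} (ha : E.D.Rt a) (h1 : a ∈ P) (h2 : -a ∈ P) (c : kˣ) :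
    E.τ (coch (E.cor a) c) ∈ E.S P := by
  obtain ⟨m, hm, h3⟩ := E.D.exists_rp_rf ha
  obtain ⟨u, hu, t, ht, rfl⟩ := (E.D.mem_TS (G2D.rt_pair ha)).1 ((sup_le_sup_left (sup_le
    (BNOf.RGD.le_Sup (S := {a, -a}) (.inl rfl)) (BNOf.RGD.le_Sup (S := {a, -a}) (.inr rfl))) _) hm)
  have h4 : E.D.Rp (E.D.rf a) u := by simpa using h3.mul (Reps.rp_of_mem (cs := E.D.cs) (hN := E.D.nsys) ht).inv
  exact BNOf.RGD.Sup_mono (S := {a, -a}) (by rintro b (rfl | rfl) <;> assumption) (G2D.τ_cor_mem ha c h4 hu)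

theorem cart : cartanOf chevF4 4 1 1 = 2 ∧ cartanOf chevF4 4 1 2 = -2 ∧ cartanOf chevF4 4 2 1 = -1 ∧
    cartanOf chevF4 4 2 2 = 2 := by decide +kernel

/-- the centre of the centraliser lies in the torus -/
theorem mem_T0 (hζ : IsPrimitiveRoot ζ 3) {y : ↥(chevF4.group k)} (h1 : y ∈ E.cen (E.e ζ '' B0))
    (h2 : y ∈ centralizer (E.S (E.Sz (E.e ζ '' B0)) : Set ↥(chevF4.group k))) : y ∈ E.T := by
  rw [← show ⊤ ⊓ centralizer (E.T : Set ↥(chevF4.group k)) = E.T from E.D.centralizer_T]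
  refine ⟨mem_top _, fun t ht => ?_⟩
  obtain ⟨c, rfl⟩ := E.mem_T.1 ht
  obtain ⟨a, ha⟩ := exists_zpow_eq (n := 2) (by norm_num) (c 1 * (c 1 * c 2))
  have h3 : ∀ (i : Fin 4) (_ : i = 1 ∨ i = 2) (b : kˣ), Commute (E.τ (coch (cartanOf chevF4 4 i) b)) y := fun i hi b =>
    h2 _ (cor_sr E i ▸ cor_mem E (isRoot_sr _ _ i) (sr_mem hζ E hi) (E.D.Sz_neg (sr_mem hζ E hi)) b)
  obtain ⟨c0, h4⟩ : ∃ c0, c = coch (cartanOf chevF4 4 1) a * coch (cartanOf chevF4 4 2) (c 1 * c 2) * c0 :=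
    ⟨_, (mul_inv_cancel_left _ c).symm⟩
  have h5 : c0 1 = 1 := by
    have h := congrFun h4 1
    rw [Pi.mul_apply, Pi.mul_apply, coch_apply, coch_apply, cart.1, cart.2.2.1, ha, _root_.zpow_neg_one,
      mul_inv_cancel_right] at h
    exact (left_eq_mul.1 h)
  have h6 : c0 2 = 1 := by
    have h := congrFun h4 2
    rw [Pi.mul_apply, Pi.mul_apply, coch_apply, coch_apply, cart.2.1, cart.2.2.2, _root_.zpow_neg, ha,
      show (c 1 * (c 1 * c 2))⁻¹ * (c 1 * c 2) ^ (2 : ℤ) = c 2 by rw [_root_.zpow_two]; group; simp] at h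
    exact (left_eq_mul.1 h)
  have h7 : E.cen (E.e ζ '' B0) ≤ E.cen {E.τ c0} :=
    sup_le_sup_left (BNOf.RGD.Sup_mono (S := E.Sz (E.e ζ '' B0)) (S' := E.Sz {E.τ c0}) fun a ha => by
      obtain ⟨⟨t, ht, rfl⟩, h⟩ := (E.mem_Sz_e hζ).1 ha
      obtain ⟨h8, h9, -⟩ := root0 t ht (h _ ⟨rfl, rfl⟩) (h _ ⟨rfl, rfl⟩)
      refine E.mem_Sz.2 ⟨⟨t, ht, rfl⟩, ?_⟩
      rintro _ rfl
      rw [E.χ_τ, chr_apply, Fin.prod_univ_four, h5, h6, h8, h9]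
      simp) _
  have h8 : Commute (E.τ c0) y := E.cen_le (Set.singleton_subset_iff.2 (E.τ_mem c0)) (h7 h1) _ rfl
  rw [h4, map_mul, map_mul]
  exact (((h3 1 (.inl rfl) a).mul_left (h3 2 (.inr rfl) _)).mul_left h8).eq

theorem odd_T (h2 : r = 2) {x : G} (hx : s.ι x ∈ E.T) : Odd (orderOf x) := by
  subst h2
  rw [← Nat.not_even_iff_odd, even_iff_two_dvd]
  intro h
  have h1 := orderOf_pow_orderOf_div (orderOf_pos x).ne' h
  obtain ⟨c, hc⟩ := E.mem_T.1 (pow_mem hx (orderOf x / 2))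
  have h0 := pow_orderOf_eq_one (x ^ (orderOf x / 2))
  rw [h1] at h0
  have h3 : c * c = 1 := E.τ_inj (by rw [map_mul, hc, ← pow_two, ← map_pow, ← map_pow, h0, map_one, map_one])
  have h4 : c = 1 := funext fun i => Units.ext (by
    have h5 : (c i : k) * c i = 1 := congrArg Units.val (congrFun h3 i)
    rcases mul_self_eq_one_iff.1 h5 with h6 | h6
    · exact h6
    · exact h6.trans (CharTwo.neg_eq 1))
  rw [h4, map_one, ← map_pow, eq_comm, ← map_one s.ι, (ι_inj s).eq_iff] at hc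
  rw [hc, orderOf_one] at h1
  exact absurd h1 (by norm_num)

theorem x_comm (E : Tor X) {a b : ℕ} (ha : a < chevF4.nroots) (hb : b < chevF4.nroots) (h1 : b ≠ a) (h2 : b ≠ chevF4.neg a)
    (h3 : chevF4.commTerms a b = []) {u v : ↥(chevF4.group k)} (hu : u ∈ E.D.X (vec chevF4 4 a))
    (hv : v ∈ E.D.X (vec chevF4 4 b)) : v * u = u * v := by
  obtain ⟨c, rfl⟩ := (E.D.mem_X _ ((E.rt_iff _).2 ⟨a, ha, rfl⟩) u).1 hu
  obtain ⟨d, rfl⟩ := (E.D.mem_X _ ((E.rt_iff _).2 ⟨b, hb, rfl⟩) v).1 hv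
  have h4 : xc hpF4 (vec chevF4 4 b) d * xc hpF4 (vec chevF4 4 a) c =
      xc hpF4 (vec chevF4 4 a) c * xc hpF4 (vec chevF4 4 b) d := Subtype.ext (by
    rw [coe_mul, coe_mul, coe_xc hpF4 ha, coe_xc hpF4 hb, UnipProd.xG_comm hpF4.inList ha hb h1 h2,
      ChevalleyDatum.commWord, h3, List.map_nil, Elts.wordG_nil, mul_one])
  show E.y * xc hpF4 _ d * E.y⁻¹ * (E.y * xc hpF4 _ c * E.y⁻¹) = E.y * xc hpF4 _ c * E.y⁻¹ * (E.y * xc hpF4 _ d * E.y⁻¹)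
  rw [conj_mul, conj_mul, h4]

/-- the highest root -/
def ga : Fin 4 → ℤ := ![2, 4, 3, 2]

theorem ga_comm (hζ : IsPrimitiveRoot ζ 3) {m : ↥(chevF4.group k)} (hm : m ∈ E.S {ga, -ga}) :
    m ∈ centralizer (E.S (E.Sz (E.e ζ '' B0)) : Set ↥(chevF4.group k)) := by
  have h1 : E.S (E.Sz (E.e ζ '' B0)) ≤ centralizer (E.S {ga, -ga} : Set ↥(chevF4.group k)) := by
    refine BNOf.RGD.Sup_le fun a ha u hu => ?_
    obtain ⟨⟨t, ht, rfl⟩, h⟩ := (E.mem_Sz_e hζ).1 ha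
    obtain ⟨-, -, h2, h3, h4, h5, h6, h7⟩ := root0 t ht (h _ ⟨rfl, rfl⟩) (h _ ⟨rfl, rfl⟩)
    have h8 : E.S {ga, -ga} ≤ centralizer {u} := by
      refine BNOf.RGD.Sup_le fun b hb v hv => mem_centralizer_singleton_iff.2 ?_
      rcases hb with rfl | rfl
      · exact x_comm E ht (by decide) h2 h3 h4 hu (vec47.1 ▸ hv)
      · exact x_comm E ht (by decide) h5 h6 h7 hu (vec47.2 ▸ hv)
    exact fun v hv => mem_centralizer_singleton_iff.1 (h8 hv)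
  exact fun c hc => (h1 hc m hm).symm

theorem ga_tab : ga ᵥ* sM chevF4 4 1 = ga ∧ ga ᵥ* sM chevF4 4 2 = ga ∧
    ga ᵥ* mW [3, 2, 1, 2, 0, 1, 2] 1 = sr 3 ∧ mW [3, 2, 1, 2, 0, 1, 2] 1 *ᵥ cartanOf chevF4 4 3 = ![0, 0, 0, 1] ∧
    ∀ a b : ZMod 3, mv (1 - vecMulVec ![0, 0, 0, 1] ga) ![a, 0, 0, b] = ![a, 0, 0, a - b] := by decide +kernel

theorem ac_of (E : Tor X) {w : CoxeterMatrix.F₄.Group} {a b : Fin 4 → ℤ} (h : b ᵥ* wm X w = a) : ac E w a = b := by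
  have h1 := congrArg (· ᵥ* wm X w⁻¹) ((ac_eq E w a).trans h.symm)
  simpa only [vecMul_vecMul, ← map_mul, mul_inv_cancel, map_one, vecMul_one] using h1

theorem sr_rt (E : Tor X) (i : Fin 4) : E.D.Rt (sr i) := isRoot_sr _ _ i

theorem ga_rt (E : Tor X) : E.D.Rt ga := (E.rt_iff _).2 ⟨47, by decide, vec47.1⟩

theorem ga_rf (E : Tor X) (a b : ZMod 3) : mv (wm X (E.rf ga)) ![a, 0, 0, b] = ![a, 0, 0, a - b] := by
  obtain ⟨-, -, h1, h2, h3⟩ := ga_tab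
  rw [mW_eq, Matrix.mul_one, ← wm_word X] at h1 h2
  rw [E.wm_rf ((E.rt_iff _).1 (ga_rt E)), ← ac_of E h1, cor_ac E _ (a := sr 3) (sr_rt E 3), cor_sr, h2, ac_of E h1, h3]

theorem eta0 {v : V3} (h : v ∈ B0) : v = ![v 0, 0, 0, v 3] := by rw [← h.1, eta v, h.1, h.2]; rfl

/-- **the anisotropic plane** -/
theorem aniso (B : Blk) (h2 : r = 2) {M : Ideal AlgInt} {b : Set (IrrCharacter G)} (H : Two 3 M b D)
    (hP : IsPGroup 3 D) (hB : ∀ v ∈ B0, v ∈ vs s hζ E D) (hD : ∀ d ∈ D, ∃ v ∈ B0, s.ι d = E.e ζ v) : False := by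
  have hr : 3 ≠ r := by omega
  have hZ : (D.map s.ι : Set ↥(chevF4.group k)) = E.e ζ '' B0 := Set.ext fun y =>
    ⟨fun ⟨d, hd, h⟩ => let ⟨v, h1, h3⟩ := hD d hd; ⟨v, h1, h3.symm.trans h⟩, fun ⟨v, hv, h⟩ =>
      let ⟨d, h1, h3⟩ := hB v hv; ⟨d, h1, h3.trans h⟩⟩
  have hH : Ce (D.map s.ι) = E.cen (E.e ζ '' B0) := by
    rw [Ce, hZ]
    exact le_antisymm (fun y => cen0 hζ) (E.cen_le (sub_T E B0))
  have hS : ⁅Ce (D.map s.ι), Ce (D.map s.ι)⁆ = E.S (E.Sz (E.e ζ '' B0)) := by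
    rw [hH]
    exact G2D.comm_eq
  have hT : ∀ d ∈ D, s.ι d ∈ E.T := fun d hd => let ⟨v, _, h⟩ := hD d hd; h ▸ E.e_mem ζ v
  choose f hf1 hf2 using fun d : D => hD d d.2
  have h9 := card_nine hP H.nc (fun d => (f d 0, f d 3)) fun d d' h => Subtype.ext (ι_inj s (by
    rw [hf2, hf2, eta0 (hf1 d), eta0 (hf1 d'), (Prod.mk.inj h).1, (Prod.mk.inj h).2]))
  obtain ⟨θ, hθ⟩ := B.can0 G 3 M b D H.hM H.hb H.hD fun d hd c hc => ι_inj s (by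
    rw [map_mul, map_mul, E.T_comm (hT d hd) (hT c hc)])
  obtain ⟨t, ht, h7⟩ := B.neg G 3 M b D θ H hθ (.inr h9)
  obtain ⟨n, hn⟩ := exists_neg X
  obtain ⟨m0, hm0⟩ := E.exists_rp n
  have hi : ∀ y ∈ E.T, m0 * y * m0⁻¹ = y⁻¹ := fun y hy => by
    obtain ⟨c, rfl⟩ := E.mem_T.1 hy
    rw [E.conj_τ hm0, hn, mon_neg, mon_one, map_inv]
  have hg : s.ι t * m0⁻¹ ∈ E.cen (E.e ζ '' B0) := by
    rw [← hH]
    rintro _ ⟨d, hd, rfl⟩
    have h1 := congrArg s.ι (h7 _ (inv_mem hd))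
    have h3 := hi _ (inv_mem (hT d hd))
    rw [map_mul, map_mul, map_inv, map_inv, inv_inv] at h1
    rw [inv_inv] at h3
    calc _ = s.ι t * (s.ι d)⁻¹ * (s.ι t)⁻¹ * (s.ι t * m0⁻¹) := by rw [h1]
      _ = s.ι t * m0⁻¹ * (m0 * (s.ι d)⁻¹ * m0⁻¹) := by group
      _ = _ := by rw [h3]
  obtain ⟨h, c, -, h1, h3⟩ := eps hr E
  obtain ⟨L, hL, rfl⟩ := fix0 (X := X) (w := h) fun v hv => (h1 v).symm.trans (fix_of_mem_vs s hζ (hB v hv))
  have h4 : ga ᵥ* (L.map (sM chevF4 4)).prod = ga := by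
    clear h1 h3
    induction L with
    | nil => exact vecMul_one _
    | cons i L ih =>
      rw [List.map_cons, List.prod_cons, ← vecMul_vecMul, show ga ᵥ* sM chevF4 4 i = ga by
        rcases hL i List.mem_cons_self with rfl | rfl
        exacts [ga_tab.1, ga_tab.2.1]]
      exact ih fun j hj => hL j (List.mem_cons_of_mem _ hj)
  have h5 := h3 ga (ga_rt E)
  rw [ac_of E (by rw [wm_word, h4])] at h5
  obtain ⟨m, hm, h6, h8⟩ := G2D.exists_fix_rf (ga_rt E) h5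
  obtain ⟨x, rfl⟩ := exists_ι s h8 (pow_orderOf_eq_one m) (Nat.coprime_one_left _)
  have h10 : ∀ a b : ZMod 3, s.ι x * E.e ζ ![a, 0, 0, b] * (s.ι x)⁻¹ = E.e ζ ![a, 0, 0, a - b] := fun a b => by
    rw [E.conj_e hζ (w := E.rf ga) h6, ga_rf]
  obtain ⟨u, hu, e1⟩ := hB ![1, 0, 0, -1] ⟨rfl, rfl⟩
  obtain ⟨z, hz, e2⟩ := hB ![0, 0, 0, 1] ⟨rfl, rfl⟩
  have h11 := B.k2 G 3 M b D θ H hθ (.inl rfl) h9 u hu (ne_one_of_e s hζ E e1 (by decide))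
    ((Ce ⁅Ce (D.map s.ι), Ce (D.map s.ι)⁆).comap s.ι) ⟨fun α hα y hy => ?_, fun y hy hc => ?_⟩ x
    (by rw [mem_comap, hS]; exact ga_comm hζ hm) (mem_normalizer_fintype fun d hd => ?_)
    (mem_centralizer_singleton_iff.2 (ι_inj s ?_))
  · have h12 := congrArg s.ι (h11 z hz)
    rw [map_mul, map_mul, e2, eq_comm, ← mul_inv_eq_iff_eq_mul, h10] at h12
    exact absurd (E.e_inj hζ h12) (by decide)
  · obtain ⟨β, L⟩ := exists_lift s α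
    have h12 : (Ce (D.map s.ι)).map (β⁻¹).toMonoidHom ≤ Ce (D.map s.ι) := by
      rintro _ ⟨g, hg, rfl⟩ _ ⟨d, hd, rfl⟩
      apply β.injective
      have h13 := hg _ ⟨α d, (hα.1.1 d).2 hd, rfl⟩
      simpa [L.ι] using h13
    intro g hg
    have h13 : β⁻¹ g ∈ ⁅Ce (D.map s.ι), Ce (D.map s.ι)⁆ :=
      commutator_mono h12 h12 ((map_commutator (Ce (D.map s.ι)) (Ce (D.map s.ι)) (β⁻¹).toMonoidHom).le
        (mem_map_of_mem (β⁻¹).toMonoidHom hg))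
    have h14 := congrArg β (hy _ h13)
    simpa [L.ι] using h14
  · have h12 : s.ι y ∈ E.cen (E.e ζ '' B0) := cen0 hζ (cen_of hB hc)
    rw [mem_comap, hS] at hy
    have h13 := mem_T0 hζ h12 hy
    have h14 : E.cen (E.e ζ '' B0) ≤ centralizer {s.ι y} :=
      sup_le (fun a ha => mem_centralizer_singleton_iff.2 (E.T_comm ha h13))
        fun a ha => mem_centralizer_singleton_iff.2 (hy a ha)
    refine (hθ.mem_kr.1 (hθ.kr_of_inv (α := MulAut.conj t) ht hc (fun a ha => ι_inj s ?_) (ι_inj s ?_) (odd_T h2 h13)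
      (by rw [pow_orderOf_eq_one]; exact one_mem _))).2
    · rw [map_mul, map_mul]
      exact mem_centralizer_singleton_iff.1 (h14 (cen0 hζ (cen_of hB ha)))
    · have h15 : Commute (s.ι t * m0⁻¹) (s.ι y) := mem_centralizer_singleton_iff.1 (h14 hg)
      rw [MulAut.conj_apply, map_mul, map_mul, map_inv, map_inv]
      calc _ = s.ι t * m0⁻¹ * (m0 * s.ι y * m0⁻¹) * (s.ι t * m0⁻¹)⁻¹ := by group
        _ = _ := by rw [hi _ h13, h15.inv_right.eq, mul_inv_cancel_right]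
  · obtain ⟨v, hv, h12⟩ := hD d hd
    obtain ⟨d', h13, h14⟩ := hB ![v 0, 0, 0, v 0 - v 3] ⟨rfl, rfl⟩
    rw [← h10, ← eta0 hv, ← h12, ← map_inv, ← map_mul, ← map_mul] at h14
    exact ι_inj s h14 ▸ h13
  · rw [map_mul, map_mul, e1, ← mul_inv_eq_iff_eq_mul, h10]
    rfl

end Cfsg.Agent.TO.F4
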