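import Cfsg.Agent.TO.F4.Lat
import Cfsg.Agent.TO.X.Fr
import Cfsg.Agent.TO.X.Conn
import Cfsg.Agent.TO.E6.Tool
import Cfsg.Agent.TO.G2D.Gen
import Cfsg.Agent.TO.Kr
import Cfsg.Agent.TO.FO.Frame

/-!
# S4817, `F₄`, `p = 3`: tools (helper65)
-/

set_option autoImplicit false
set_option linter.unusedSectionVars false

namespace Cfsg.Agent.TO.F4

open CoxeterSystem Cfsg Cfsg.Lie Matrix Subgroup Cfsg.Agent.KZ.DatX Cfsg.Agent.KZ.McX Cfsg.Agent.TO.X Cfsg.Agent.Nodes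
  Cfsg.Agent.ChevalleyStructure.CoxeterGeomTypes Cfsg.Agent.ChevalleyStructure.CoxeterGeom Cfsg.Agent.Tits.Roots
  Cfsg.Agent.DL Cfsg.Agent.Nodes.Coroot Cfsg.Agent.Nodes.RGDChev
open Cfsg.Agent.BHZ.Nil (KK)

/-- a normal plane -/
theorem exists_plane {G : Type} [Group G] [Finite G] {p : ℕ} [Fact p.Prime] {D : Subgroup G} (hD : IsPGroup p D)
    (hc : ¬ IsCyclic D) : ∃ z ∈ D, z ≠ 1 ∧ (∀ d ∈ D, z * d = d * z) ∧ ∃ x ∈ D, x ∉ zpowers z ∧
      ∀ d ∈ D, d * x * d⁻¹ * x⁻¹ ∈ zpowers z := by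
  obtain ⟨z, hz, z1, h1⟩ := FO.exists_central hD fun e => hc (e ▸ inferInstance)
  obtain ⟨y, hy, h2⟩ := FO.exists_not_mem_zpowers hc hz
  have hN : ((zpowers z).subgroupOf D).Normal := ⟨fun n hn g => by
    obtain ⟨j, hj⟩ := hn
    refine ⟨j, ?_⟩
    have h3 : z ^ j = n := hj
    show z ^ j = g * n * (g : G)⁻¹
    rw [← h3, ← ((h1 g g.2).zpow_left j).eq, mul_inv_cancel_right]⟩
  have : Nontrivial (D ⧸ (zpowers z).subgroupOf D) :=
    ⟨⟨((⟨y, hy⟩ : D) : D ⧸ _), 1, fun e => h2 ((QuotientGroup.eq_one_iff (⟨y, hy⟩ : D)).1 e)⟩⟩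
  obtain ⟨c, hc1, hc2⟩ := (nontrivial_iff_exists_ne_one _).1 (hD.to_quotient ((zpowers z).subgroupOf D)).center_nontrivial
  obtain ⟨x, rfl⟩ := QuotientGroup.mk_surjective c
  refine ⟨z, hz, z1, fun d hd => (h1 d hd).eq, x, x.2, fun e => hc2 ((QuotientGroup.eq_one_iff _).2 e), fun d hd => ?_⟩
  have h3 : (((⟨d, hd⟩ : D) * x * (⟨d, hd⟩ : D)⁻¹ * x⁻¹ : D) : D ⧸ (zpowers z).subgroupOf D) = 1 := by
    rw [QuotientGroup.mk_mul, QuotientGroup.mk_mul, QuotientGroup.mk_mul, mem_center_iff.1 hc1, QuotientGroup.mk_inv,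
      QuotientGroup.mk_inv, mul_inv_cancel_right, mul_inv_cancel]
  exact (QuotientGroup.eq_one_iff (N := (zpowers z).subgroupOf D) _).1 h3

theorem card_nine {G : Type} [Group G] [Finite G] {D : Subgroup G} (hD : IsPGroup 3 D) (hc : ¬ IsCyclic D)
    (f : D → ZMod 3 × ZMod 3) (hf : Function.Injective f) : Nat.card D = 9 := by
  obtain ⟨j, hj⟩ := IsPGroup.iff_card.1 hD
  have h1 := Nat.card_le_card_of_injective f hf
  rw [Nat.card_prod, Nat.card_zmod, hj, show 3 * 3 = 3 ^ 2 from rfl, Nat.pow_le_pow_iff_right (by norm_num)] at h1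
  rw [hj, show 9 = 3 ^ 2 from rfl]
  congr 1
  by_contra h2
  exact hc (isCyclic_of_card_dvd_prime (p := 3) (hj ▸ (pow_dvd_pow 3 (by omega)).trans (pow_one 3).dvd))

section Dat

variable {r : ℕ} [Fact r.Prime] {k : Type} [Field k] [CharP k r] {Y : Type} [Group Y] {N : Type} [Fintype N]
  [DecidableEq N] {ρ : Y →* GL N k} {F : MulAut Y} {G : Subgroup Y} [IsAlgClosed k] (D : Datum r ρ F G)

/-- a rotation of order three is undone by two reflections -/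
theorem rot {h : D.W} {a : D.I → ℤ} (ha : D.Rt a)
    (hs : ∀ b, b + D.act h b + D.act h (D.act h b) = 0) : D.act (D.rf (D.act h a) * D.rf a) (D.act h a) = a := by
  have := D.fW
  have := Fintype.ofFinite D.W
  have hb := ha.act h
  have h1 : D.act h (D.act h (D.act h a)) = a := by
    have h2 := hs (D.act h a)
    rw [← hs a, add_comm a, add_assoc, add_assoc, add_comm a] at h2
    exact add_left_cancel (add_left_cancel h2)
  have h2 := congrArg (cpr D.cs D.h · a) (hs a)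
  have h3 := cpr_smul D.cs D.h 0 a ha
  rw [zero_smul, zero_mul] at h3
  have h4 := cpr_rep D.cs D.h h (D.act h (D.act h a)) ha
  simp only [cpr_add D.cs D.h _ _ ha, cpr_self D.cs D.h ha, h3] at h2
  rw [← h4] at h2
  change 2 + cpr D.cs D.h (D.act h a) a + cpr D.cs D.h (D.act h (D.act h (D.act h a))) (D.act h a) = 0 at h2
  rw [h1] at h2
  have h5 : 0 < cpr D.cs D.h (D.act h a) a ↔ 0 < cpr D.cs D.h a (D.act h a) := by
    rw [cpr_pos_iff D.cs D.h _ ha, cpr_pos_iff D.cs D.h _ hb, form_comm]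
  have h6 := cpr_zero_comm D.cs D.h hb ha
  have h7 : cpr D.cs D.h (D.act h a) a = -1 := by
    change cpr D.cs D.h (D.act h a) a = 0 ↔ cpr D.cs D.h a (D.act h a) = 0 at h6
    omega
  have h8 : cpr D.cs D.h a (D.act h a) = -1 := by omega
  have h9 : D.act (D.rf (D.act h a) * D.rf a) (D.act h a) = D.act (D.rf (D.act h a)) (D.act (D.rf a) (D.act h a)) :=
    rep_mul_apply _ _ _ _ _
  rw [h9, D.act_rf ha, h7, D.act_rf hb, neg_smul, one_smul, sub_neg_eq_add, cpr_add D.cs D.h _ _ hb,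
    cpr_self D.cs D.h hb, h8]
  norm_num

end Dat

variable {r : ℕ} [Fact r.Prime] {k : Type} [Field k] [CharP k r] [IsAlgClosed k] {e : ℕ}
  {X : XF hpF4 r k ((r : ℤ) ^ e • 1)}

/-- the action of the Weyl group on the roots -/
noncomputable def ac (E : Tor X) (w : CoxeterMatrix.F₄.Group) (a : Fin 4 → ℤ) : Fin 4 → ℤ := E.D.act w a

/-- the permutation of the roots -/
noncomputable def gg (E : Tor X) (a : Fin 4 → ℤ) : Fin 4 → ℤ := E.D.g a

theorem ac_eq (E : Tor X) (w : CoxeterMatrix.F₄.Group) (a : Fin 4 → ℤ) : ac E w a ᵥ* wm X w = a := by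
  have h0 : ∀ B : Matrix (Fin 4) (Fin 4) ℤ, E.D.Wm w = B → ac E w a ᵥ* B = a := by
    rintro _ rfl
    exact E.D.wt_act w a
  exact h0 _ (E.Wm_eq w)

theorem ac_mul (E : Tor X) (v w : CoxeterMatrix.F₄.Group) (a : Fin 4 → ℤ) : ac E (v * w) a = ac E v (ac E w a) :=
  rep_mul_apply _ _ _ _ _

theorem ac_inv (E : Tor X) (w : CoxeterMatrix.F₄.Group) (a : Fin 4 → ℤ) : ac E w⁻¹ a = a ᵥ* wm X w := by
  have h := congrArg (· ᵥ* wm X w) (ac_eq E w⁻¹ a)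
  simpa only [vecMul_vecMul, ← map_mul, inv_mul_cancel, map_one, vecMul_one] using h

theorem ac_rt (E : Tor X) (w : CoxeterMatrix.F₄.Group) {a : Fin 4 → ℤ} (ha : E.D.Rt a) : E.D.Rt (ac E w a) := ha.act w

theorem cor_ac (E : Tor X) (w : CoxeterMatrix.F₄.Group) {a : Fin 4 → ℤ} (ha : E.D.Rt a) :
    E.cor (ac E w a) = wm X w *ᵥ E.cor a := by
  have h0 : ∀ B : Matrix (Fin 4) (Fin 4) ℤ, E.D.Wm w = B → E.cor (ac E w a) = B *ᵥ E.cor a := by
    rintro _ rfl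
    exact E.D.cor_act w ha
  exact h0 _ (E.Wm_eq w)

theorem exists_neg (X : XF hpF4 r k ((r : ℤ) ^ e • 1)) : ∃ w, wm X w = -1 := X.exists_neg_F4

/-- the Weyl group part of the Frobenius map -/
theorem eps (hr : 3 ≠ r) (E : Tor X) : ∃ (h : CoxeterMatrix.F₄.Group) (c : ℤ), E.A = c • wm X h ∧
    (∀ v : V3, mv E.A v = mv (wm X h) v) ∧ ∀ a : Fin 4 → ℤ, E.D.Rt a → gg E a = ac E h a ∨ gg E a = -ac E h a := by
  have h0 : ∀ c : ZMod 3, c * c = 1 → c = 1 ∨ -c = 1 := by decide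
  have hq : (0 : ℤ) < (r : ℤ) ^ e := pow_pos (Int.natCast_pos.2 (Fact.out : r.Prime).pos) _
  have h1 : E.A = (r : ℤ) ^ e • wm X E.w := by rw [E.A_eq, Matrix.mul_smul, Matrix.mul_one]
  have h2 : ∀ a : Fin 4 → ℤ, E.D.Rt a → gg E a = ac E E.w a := fun a ha => by
    have h3 : ac E E.w a ᵥ* E.A = (r : ℤ) ^ e • a := by rw [h1, vecMul_smul, ac_eq]
    exact (E.D.eq_g_of_ψ ha (ha.act E.w) hq ((E.D.wt_ψ _).trans h3)).symm
  rcases h0 _ (sq_cast Fact.out hr e) with h3 | h3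
  · exact ⟨E.w, _, h1, fun v => by rw [h1, smul_mv, h3, one_smul], fun a ha => .inl (h2 a ha)⟩
  · obtain ⟨n, hn⟩ := exists_neg X
    have h4 : E.A = (-(r : ℤ) ^ e) • wm X (n * E.w) := by rw [map_mul, hn, neg_mul, one_mul, neg_smul_neg, h1]
    refine ⟨n * E.w, _, h4, fun v => by rw [h4, smul_mv, Int.cast_neg, h3, one_smul], fun a ha => .inr ?_⟩
    have h5 := ac_eq E n (ac E E.w a)
    rw [hn, vecMul_neg, vecMul_one] at h5
    rw [h2 a ha, ac_mul, h5]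

theorem fix0 {w : CoxeterMatrix.F₄.Group} (h : ∀ v ∈ B0, mv (wm X w) v = v) :
    ∃ L : List (Fin 4), (∀ i ∈ L, i = 1 ∨ i = 2) ∧ w = CoxeterMatrix.F₄.toCoxeterSystem.wordProd L := by
  obtain ⟨L, hL, rfl⟩ := exists_wordF4 X w
  rw [wm_word] at h
  obtain ⟨L', h1, h2⟩ := tab2 L hL ((tv_word L ![1, 0, 0, 0]).symm.trans (congrArg tv (h _ ⟨rfl, rfl⟩)))
    ((tv_word L ![0, 0, 0, 1]).symm.trans (congrArg tv (h _ ⟨rfl, rfl⟩)))
  rw [mW_eq, mW_eq, Matrix.mul_one, Matrix.mul_one, ← wm_word X, ← wm_word X] at h2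
  exact ⟨L', L2_mem L' h1, wm_inj X h2⟩

theorem fix1 {w : CoxeterMatrix.F₄.Group} (h : ∀ v ∈ B1, mv (wm X w) v = v) :
    w = 1 ∨ (wm X w * wm X w + wm X w + 1 = 0 ∧ ∀ v, mv (wm X w) v = v → v ∈ B1) := by
  obtain ⟨L, hL, rfl⟩ := exists_wordF4 X w
  rw [wm_word] at h
  have h1 := tab3 L hL ((tv_word L ![0, 0, 1, 0]).symm.trans (congrArg tv (h _ ⟨rfl, rfl⟩)))
    ((tv_word L ![1, 1, 0, 1]).symm.trans (congrArg tv (h _ ⟨rfl, rfl⟩)))
  rw [mW_eq, Matrix.mul_one, ← wm_word X] at h1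
  refine h1.imp (fun h2 => wm_inj X (h2.trans (map_one _).symm)) fun h2 => ⟨h2.1, fun v hv => h2.2 (tv v) ?_⟩
  rw [← tv_word, ← wm_word X, hv]

theorem cube1 {w : CoxeterMatrix.F₄.Group} (h : ∀ v ∈ B1, mv (wm X w) v = v) : w ^ 3 = 1 := by
  rcases fix1 h with rfl | ⟨h1, -⟩
  · exact one_pow 3
  · refine wm_inj X ?_
    rw [map_pow, map_one, ← sub_eq_zero, show wm X w ^ 3 - 1 = (wm X w - 1) * (wm X w * wm X w + wm X w + 1) by
      noncomm_ring, h1, mul_zero]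

theorem mv_cast (W : Matrix (Fin 4) (Fin 4) ℤ) (a : Fin 4 → ℤ) :
    (mv W fun j => (a j : ZMod 3)) = fun j => ((W *ᵥ a) j : ZMod 3) := by
  funext j
  simp only [mv, mulVec, dotProduct, Matrix.map_apply, Int.cast_sum, Int.cast_mul]

theorem cor_sr (E : Tor X) (i : Fin 4) : E.cor (sr i) = cartanOf chevF4 4 i := E.D.cor_sr i

theorem nm_cor (E : Tor X) {a : Fin 4 → ℤ} (ha : E.D.Rt a) : Nm (fun i => (E.cor a i : ZMod 3)) ≠ 0 := by
  obtain ⟨w, i, h⟩ : ∃ (w : CoxeterMatrix.F₄.Group) (i : Fin 4), a = ac E w (sr i) := ha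
  rw [h, cor_ac E w (isRoot_sr _ _ i), ← mv_cast, nm_wm (WM_wm X w), cor_sr]
  exact nm_cw i

variable {Adm : Matrix (Fin 4) (Fin 4) ℤ → Prop} {G : Type} [Group G] [Finite G] (s : XS X Adm 1 G) {ζ : kˣ}
  (hζ : IsPrimitiveRoot ζ 3)

theorem ss (hr : 3 ≠ r) {z : G} (hz : z ^ 3 = 1) : ¬ r ∣ orderOf (s.ι z) :=
  G2D.ss_of_pow Nat.prime_three hr (by rw [← map_pow, hz, map_one])

include hζ

theorem exists_pair (hr : 3 ≠ r) {z x : G} (hz : z ^ 3 = 1) (hx : x ^ 3 = 1) (hc : z * x = x * z) :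
    ∃ (E : Tor X) (u v : V3), s.ι z = E.e ζ u ∧ s.ι x = E.e ζ v := by
  have h3 : ∀ y : G, y ^ 3 = 1 → s.ι y ^ 3 = 1 := fun y hy => by rw [← map_pow, hy, map_one]
  obtain ⟨E, hE⟩ := exists_tor X (F_ι s z) (ss s hr hz)
  obtain ⟨E', h1, h2⟩ := E.exists_tor_cen (Set.singleton_subset_iff.2 hE) (fun y hy => by rw [hy, F_ι]; rfl)
    (Cn.mem_cen (D := E.D) ((Cn.pi1 X Cn.pm_F4).conj (mem_top _) E.hF) hE (h3 z hz) (by norm_num) (mem_top (s.ι x))
      (by rw [← map_mul, ← hc, map_mul])) (F_ι s x) (ss s hr hx)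
  obtain ⟨u, hu⟩ := E'.exists_e hζ (h1 rfl) (h3 z hz)
  obtain ⟨v, hv⟩ := E'.exists_e hζ h2 (h3 x hx)
  exact ⟨E', u, v, hu.symm, hv.symm⟩

theorem e_lin (E : Tor X) {z x : G} {u v : V3} (hu : s.ι z = E.e ζ u) (hv : s.ι x = E.e ζ v) (i j : ZMod 3) :
    s.ι (z ^ i.val * x ^ j.val) = E.e ζ (i • u + j • v) := by
  rw [map_mul, map_pow, map_pow, hu, hv, E.e_add hζ, E.e_smul hζ, E.e_smul hζ]

theorem ind_of (E : Tor X) {z x : G} {u v : V3} (hu : s.ι z = E.e ζ u) (hv : s.ι x = E.e ζ v) (h1 : z ≠ 1)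
    (h2 : x ∉ zpowers z) (i j : ZMod 3) (h : i • u + j • v = 0) : i = 0 ∧ j = 0 := by
  have h3 : j = 0 := by
    by_contra h4
    have h5 : v = (-(j * i)) • u + (0 : ZMod 3) • v := by
      have h6 : ∀ j : ZMod 3, j ≠ 0 → j * j = 1 := by decide
      rw [zero_smul, add_zero, neg_smul, mul_smul, eq_neg_iff_add_eq_zero.2 h, smul_neg, neg_neg, smul_smul, h6 j h4,
        one_smul]
    have h7 := e_lin s hζ E hu hv (-(j * i)) 0
    rw [← h5, ← hv, ZMod.val_zero, pow_zero, mul_one] at h7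
    exact h2 (ι_inj s h7 ▸ npow_mem_zpowers z _)
  refine ⟨by_contra fun h4 => h1 (ι_inj s ?_), h3⟩
  rw [h3, zero_smul, add_zero, smul_eq_zero] at h
  rw [hu, h.resolve_left h4, E.e_zero hζ, map_one]

/-- conjugate elements have the same norm -/
theorem nm_conj (E : Tor X) {u v : V3} {y : ↥(chevF4.group k)} (h : y * E.e ζ u * y⁻¹ = E.e ζ v) : Nm v = Nm u := by
  obtain ⟨w, m, h1, h2⟩ := E6.exists_rp_conj E.D (ι := Unit) (s := fun _ => E.e ζ u) (t := fun _ => E.e ζ v)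
    (fun _ => E.e_mem ζ u) (fun _ => E.e_mem ζ v) (mem_top y) fun _ => h
  rw [← E.e_inj hζ ((E.conj_e hζ h1 u).symm.trans (h2 ())), nm_wm (WM_wm X w)]

end Cfsg.Agent.TO.F4
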