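import Cfsg.Agent.TO.X.Iface
import Cfsg.Agent.KZ.McX.WF4

/-!
# S4817, `F₄`, `p = 3`: the lattice modulo three (helper65)

* `Nm` : the invariant quadratic form; `nm_cj`, `nm_cjF`;
* `std0`, `std1` : the anisotropic and the totally singular planes are conjugate to `B0`, `B1`;
* `fix0`, `fix1` : their pointwise stabilisers; `tern` : ternary forms are isotropic.
-/

set_option autoImplicit false
set_option linter.unusedSectionVars false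
set_option Elab.async false
set_option synthInstance.maxSize 4096
set_option synthInstance.maxHeartbeats 200000

namespace Cfsg.Agent.TO.F4

open Cfsg Cfsg.Lie Matrix Cfsg.Agent.KZ.DatX Cfsg.Agent.KZ.McX Cfsg.Agent.TO.X Cfsg.Agent.Nodes
  Cfsg.Agent.ChevalleyStructure.CoxeterGeomTypes

/-- the vectors -/
abbrev V3 : Type := Fin 4 → ZMod 3

/-- the tuples -/
abbrev T4 : Type := ZMod 3 × ZMod 3 × ZMod 3 × ZMod 3

/-- the tuple of a vector -/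
def tv (v : V3) : T4 := (v 0, v 1, v 2, v 3)

/-- the form on tuples -/
def nt (t : T4) : ZMod 3 :=
  t.2.2.2 * t.2.2.2 - t.1 * t.1 + t.1 * t.2.2.1 - t.1 * t.2.2.2 - t.2.1 * t.2.2.1 + t.2.1 * t.2.2.2

/-- the invariant form -/
def Nm (v : V3) : ZMod 3 := nt (tv v)

/-- a simple reflection -/
def st : Fin 4 → T4 → T4
  | 0, t => (-t.1, t.2.1 + t.1, t.2.2.1, t.2.2.2)
  | 1, t => (t.1 + t.2.1, -t.2.1, t.2.2.1 - t.2.1, t.2.2.2)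
  | 2, t => (t.1, t.2.1 + t.2.2.1, -t.2.2.1, t.2.2.2 + t.2.2.1)
  | 3, t => (t.1, t.2.1, t.2.2.1 + t.2.2.2, -t.2.2.2)

/-- a word -/
def ap (L : List (Fin 4)) (t : T4) : T4 := L.foldr st t

theorem tv_inj {u v : V3} (h : tv u = tv v) : u = v := by
  simp only [tv, Prod.mk.injEq] at h
  funext i
  fin_cases i
  exacts [h.1, h.2.1, h.2.2.1, h.2.2.2]

theorem sM_eq : sM chevF4 4 0 = !![-1, 0, 0, 0; 1, 1, 0, 0; 0, 0, 1, 0; 0, 0, 0, 1] ∧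
    sM chevF4 4 1 = !![1, 1, 0, 0; 0, -1, 0, 0; 0, 2, 1, 0; 0, 0, 0, 1] ∧
    sM chevF4 4 2 = !![1, 0, 0, 0; 0, 1, 1, 0; 0, 0, -1, 0; 0, 0, 1, 1] ∧
    sM chevF4 4 3 = !![1, 0, 0, 0; 0, 1, 0, 0; 0, 0, 1, 1; 0, 0, 0, -1] := by decide +kernel

theorem eta (v : V3) : v = ![v 0, v 1, v 2, v 3] := by
  funext i
  fin_cases i <;> rfl

theorem tv_sM (i : Fin 4) (v : V3) : tv (mv (sM chevF4 4 i) v) = st i (tv v) := by
  have h : ∀ a b c d : ZMod 3,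
      tv (mv !![-1, 0, 0, 0; 1, 1, 0, 0; 0, 0, 1, 0; 0, 0, 0, 1] ![a, b, c, d]) = st 0 (a, b, c, d) ∧
      tv (mv !![1, 1, 0, 0; 0, -1, 0, 0; 0, 2, 1, 0; 0, 0, 0, 1] ![a, b, c, d]) = st 1 (a, b, c, d) ∧
      tv (mv !![1, 0, 0, 0; 0, 1, 1, 0; 0, 0, -1, 0; 0, 0, 1, 1] ![a, b, c, d]) = st 2 (a, b, c, d) ∧
      tv (mv !![1, 0, 0, 0; 0, 1, 0, 0; 0, 0, 1, 1; 0, 0, 0, -1] ![a, b, c, d]) = st 3 (a, b, c, d) := by
    decide +kernel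
  have h1 := h (v 0) (v 1) (v 2) (v 3)
  rw [← eta v, ← sM_eq.1, ← sM_eq.2.1, ← sM_eq.2.2.1, ← sM_eq.2.2.2] at h1
  fin_cases i
  exacts [h1.1, h1.2.1, h1.2.2.1, h1.2.2.2]

theorem tv_word (L : List (Fin 4)) (v : V3) : tv (mv (L.map (sM chevF4 4)).prod v) = ap L (tv v) := by
  induction L with
  | nil => rw [List.map_nil, List.prod_nil, mv_one]; rfl
  | cons i L ih => rw [List.map_cons, List.prod_cons, mv_mul, tv_sM, ih]; rfl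

theorem nt_st (i : Fin 4) (t : T4) : nt (st i t) = nt t := by
  revert i t
  decide +kernel

theorem nm_wm {W : Matrix (Fin 4) (Fin 4) ℤ} (h : WM chevF4 4 W) (v : V3) : Nm (mv W v) = Nm v := by
  obtain ⟨L, rfl⟩ := h
  rw [Nm, tv_word, Nm]
  induction L with
  | nil => rfl
  | cons i L ih => exact (nt_st i _).trans ih

theorem nm_smul (c : ZMod 3) (v : V3) : Nm (c • v) = c * c * Nm v := by
  simp only [Nm, nt, tv, Pi.smul_apply, smul_eq_mul]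
  ring

theorem nm_zero : Nm 0 = 0 := by decide +kernel

theorem nm_gam (v : V3) : Nm (mv GamF v) = -Nm v := by
  have h : ∀ a b c d : ZMod 3, Nm (mv !![0, 0, 0, 1; 0, 0, 1, 0; 0, 2, 0, 0; 2, 0, 0, 0] ![a, b, c, d]) =
    -Nm ![a, b, c, d] := by decide +kernel
  rw [GamF_eq, eta v, h]

theorem sq_cast {r : ℕ} (hr : r.Prime) (h3 : 3 ≠ r) (j : ℕ) :
    (((r : ℤ) ^ j : ℤ) : ZMod 3) * (((r : ℤ) ^ j : ℤ) : ZMod 3) = 1 := by
  have h : ∀ c : ZMod 3, c ≠ 0 → c * c = 1 := by decide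
  refine h _ fun e => h3 ?_
  rw [Int.cast_pow, Int.cast_natCast, ← Nat.cast_pow, ZMod.natCast_eq_zero_iff] at e
  exact (Nat.prime_dvd_prime_iff_eq Nat.prime_three hr).1 (Nat.prime_three.dvd_of_dvd_pow e)

theorem nm_cjF {r : ℕ} (hr : r.Prime) (h3 : 3 ≠ r) {u v : V3} (h : Cj chevF4 (AdmF r) u v) : Nm v = Nm u := by
  obtain ⟨W, A, h1, ⟨j, rfl⟩, rfl⟩ := h
  rw [mv_mul, nm_wm h1, smul_mv, mv_one, nm_smul, sq_cast hr h3, one_mul]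

theorem nm_cj {r : ℕ} (hr : r.Prime) (h3 : 3 ≠ r) {u v : V3} (h : Cj chevF4 (AdmF4 r) u v) :
    Nm v = Nm u ∨ (r = 2 ∧ Nm v = -Nm u) := by
  obtain ⟨W, A, h1, h2 | ⟨rfl, j, B, h2, rfl⟩, rfl⟩ := h
  · exact .inl (nm_cjF hr h3 ⟨W, A, h1, h2, rfl⟩)
  · rw [mv_mul, nm_wm h1, smul_mv, nm_smul, sq_cast hr h3, one_mul]
    rcases List.mem_pair.1 h2 with rfl | rfl
    · exact .inl (by rw [mv_one])
    · exact .inr ⟨rfl, nm_gam u⟩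

/-! ### planes -/

/-- the standard anisotropic plane -/
def B0 : Set V3 := {v | v 1 = 0 ∧ v 2 = 0}

/-- the standard totally singular plane -/
def B1 : Set V3 := {v | v 1 = v 0 ∧ v 3 = v 0}

/-- words for the anisotropic planes -/
def L0 : List (List (Fin 4)) := [[], [0], [3], [0, 1], [3, 0], [3, 2], [3, 0, 1], [3, 2, 0], [3, 0, 1, 2], [3, 2, 0, 1],
  [3, 0, 1, 2, 1], [3, 2, 0, 1, 2], [3, 0, 1, 2, 1, 0], [3, 2, 0, 1, 2, 1], [3, 2, 0, 1, 2, 3], [3, 2, 0, 1, 2, 1, 0],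
  [3, 2, 0, 1, 2, 3, 1], [3, 2, 0, 1, 2, 3, 1, 0]]

/-- words for the totally singular planes -/
def L1 : List (List (Fin 4)) := [[], [0], [2], [1, 2], [2, 1], [1, 2, 1], [1, 2, 3], [1, 2, 1, 0]]

theorem tab0 : ∀ u : T4, nt u ≠ 0 → ∀ x : T4, nt x ≠ 0 → nt (u + x) ≠ 0 → nt (u - x) ≠ 0 →
    ∃ L ∈ L0, ((ap L u).2.1 = 0 ∧ (ap L u).2.2.1 = 0) ∧ (ap L x).2.1 = 0 ∧ (ap L x).2.2.1 = 0 := by
  decide +kernel

theorem tab1 : ∀ u : T4, nt u = 0 → ∀ x : T4, nt x = 0 → nt (u + x) = 0 →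
    ∃ L ∈ L1, ((ap L u).2.1 = (ap L u).1 ∧ (ap L u).2.2.2 = (ap L u).1) ∧
      (ap L x).2.1 = (ap L x).1 ∧ (ap L x).2.2.2 = (ap L x).1 := by
  decide +kernel

theorem std0 {u x : V3} (h1 : Nm u ≠ 0) (h2 : Nm x ≠ 0) (h3 : Nm (u + x) ≠ 0) (h4 : Nm (u - x) ≠ 0) :
    ∃ W, WM chevF4 4 W ∧ mv W u ∈ B0 ∧ mv W x ∈ B0 := by
  obtain ⟨L, -, h⟩ := tab0 (tv u) h1 (tv x) h2 h3 h4
  rw [← tv_word, ← tv_word] at h
  exact ⟨_, ⟨L, rfl⟩, h⟩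

theorem std1 {u x : V3} (h1 : Nm u = 0) (h2 : Nm x = 0) (h3 : Nm (u + x) = 0) :
    ∃ W, WM chevF4 4 W ∧ mv W u ∈ B1 ∧ mv W x ∈ B1 := by
  obtain ⟨L, -, h⟩ := tab1 (tv u) h1 (tv x) h2 h3
  rw [← tv_word, ← tv_word] at h
  exact ⟨_, ⟨L, rfl⟩, h⟩

theorem span_two : ∀ a b c d : ZMod 3, (∀ i j, i * a + j * c = 0 → i * b + j * d = 0 → i = 0 ∧ j = 0) →
    ∀ e f, ∃ i j, e = i * a + j * c ∧ f = i * b + j * d := by decide +kernel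

theorem span0 {u x v : V3} (hu : u ∈ B0) (hx : x ∈ B0) (h : ∀ i j : ZMod 3, i • u + j • x = 0 → i = 0 ∧ j = 0)
    (hv : v ∈ B0) : ∃ i j : ZMod 3, v = i • u + j • x := by
  obtain ⟨i, j, h1, h2⟩ := span_two (u 0) (u 3) (x 0) (x 3) (fun i j h1 h2 => h i j (tv_inj (by
    simp only [tv, Pi.add_apply, Pi.smul_apply, smul_eq_mul, hu.1, hu.2, hx.1, hx.2, h1, h2, mul_zero, add_zero,
      Pi.zero_apply]))) (v 0) (v 3)
  exact ⟨i, j, tv_inj (by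
    simp only [tv, Pi.add_apply, Pi.smul_apply, smul_eq_mul, hu.1, hu.2, hx.1, hx.2, hv.1, hv.2, ← h1, ← h2, mul_zero,
      add_zero])⟩

theorem span1 {u x v : V3} (hu : u ∈ B1) (hx : x ∈ B1) (h : ∀ i j : ZMod 3, i • u + j • x = 0 → i = 0 ∧ j = 0)
    (hv : v ∈ B1) : ∃ i j : ZMod 3, v = i • u + j • x := by
  obtain ⟨i, j, h1, h2⟩ := span_two (u 0) (u 2) (x 0) (x 2) (fun i j h1 h2 => h i j (tv_inj (by
    simp only [tv, Pi.add_apply, Pi.smul_apply, smul_eq_mul, hu.1, hu.2, hx.1, hx.2, h1, h2, Pi.zero_apply]))) (v 0) (v 2)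
  exact ⟨i, j, tv_inj (by
    simp only [tv, Pi.add_apply, Pi.smul_apply, smul_eq_mul, hu.1, hu.2, hx.1, hx.2, hv.1, hv.2, ← h1, ← h2])⟩

/-- the words in the two middle reflections -/
def L2 : List (List (Fin 4)) := [[], [1], [2], [1, 2], [2, 1], [1, 2, 1], [2, 1, 2], [2, 1, 2, 1]]

theorem tab2 : ∀ L ∈ wordsF4, ap L (1, 0, 0, 0) = (1, 0, 0, 0) → ap L (0, 0, 0, 1) = (0, 0, 0, 1) →
    ∃ L' ∈ L2, mW L 1 = mW L' 1 := by decide +kernel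

theorem tab3 : ∀ L ∈ wordsF4, ap L (0, 0, 1, 0) = (0, 0, 1, 0) → ap L (1, 1, 0, 1) = (1, 1, 0, 1) →
    mW L 1 = 1 ∨ (mW L 1 * mW L 1 + mW L 1 + 1 = 0 ∧ ∀ t, ap L t = t → t.2.1 = t.1 ∧ t.2.2.2 = t.1) := by decide +kernel

theorem L2_mem : ∀ L ∈ L2, ∀ i ∈ L, i = 1 ∨ i = 2 := by decide

theorem tern0 : ∀ a b c d e f : ZMod 3, ∃ i j k : ZMod 3, ¬ (i = 0 ∧ j = 0 ∧ k = 0) ∧
    a * (i * i) + b * (j * j) + c * (k * k) + d * (i * j) + e * (i * k) + f * (j * k) = 0 := by decide +kernel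

/-- ternary forms are isotropic -/
theorem tern (u x v : V3) : ∃ i j k : ZMod 3, ¬ (i = 0 ∧ j = 0 ∧ k = 0) ∧ Nm (i • u + j • x + k • v) = 0 := by
  obtain ⟨i, j, k, h1, h2⟩ := tern0 (Nm u) (Nm x) (Nm v) (Nm (u + x) - Nm u - Nm x) (Nm (u + v) - Nm u - Nm v)
    (Nm (x + v) - Nm x - Nm v)
  refine ⟨i, j, k, h1, Eq.trans ?_ h2⟩
  simp only [Nm, nt, tv, Pi.add_apply, Pi.smul_apply, smul_eq_mul]
  ring

theorem nm_par (u x : V3) : Nm (x + u) + Nm (x - u) = 2 * Nm x + 2 * Nm u := by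
  simp only [Nm, nt, tv, Pi.add_apply, Pi.sub_apply]
  ring

theorem nm_cw : ∀ i : Fin 4, Nm (fun j => (cartanOf chevF4 4 i j : ZMod 3)) ≠ 0 := by decide +kernel

theorem root0 : ∀ s < chevF4.nroots, vl (RGDChev.vec chevF4 4 s) (![1, 0, 0, 0] : V3) = 0 →
    vl (RGDChev.vec chevF4 4 s) (![0, 0, 0, 1] : V3) = 0 → RGDChev.vec chevF4 4 s 0 = 0 ∧ RGDChev.vec chevF4 4 s 3 = 0 ∧
      47 ≠ s ∧ 47 ≠ chevF4.neg s ∧ chevF4.commTerms s 47 = [] ∧ 0 ≠ s ∧ 0 ≠ chevF4.neg s ∧ chevF4.commTerms s 0 = [] := by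
  decide +kernel

theorem root1 : ∀ s < chevF4.nroots, vl (RGDChev.vec chevF4 4 s) (![0, 0, 1, 0] : V3) = 0 →
    vl (RGDChev.vec chevF4 4 s) (![1, 1, 0, 1] : V3) ≠ 0 := by decide +kernel

theorem vec47 : RGDChev.vec chevF4 4 47 = ![2, 4, 3, 2] ∧ RGDChev.vec chevF4 4 0 = -![2, 4, 3, 2] := by decide +kernel

end Cfsg.Agent.TO.F4
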