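import Cfsg.Agent.TO.F4.Base

/-!
# S4817, `F₄`, `p = 3`: the totally singular plane (helper65)
-/

set_option autoImplicit false
set_option linter.unusedSectionVars false

namespace Cfsg.Agent.TO.F4

open CoxeterSystem Cfsg Cfsg.Lie Matrix Subgroup Cfsg.Agent.KZ.DatX Cfsg.Agent.KZ.McX Cfsg.Agent.TO.X Cfsg.Agent.Nodes
  Cfsg.Agent.ChevalleyStructure.CoxeterGeomTypes Cfsg.Agent.ChevalleyStructure.CoxeterGeom Cfsg.Agent.Tits.Roots
  Cfsg.Agent.DL Cfsg.Agent.Nodes.Coroot Cfsg.Agent.Nodes.RGDChev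
open Cfsg.Agent.BHZ.Nil (KK)

variable {r : ℕ} [Fact r.Prime] {k : Type} [Field k] [CharP k r] [IsAlgClosed k] {e : ℕ}
  {X : XF hpF4 r k ((r : ℤ) ^ e • 1)} {Adm : Matrix (Fin 4) (Fin 4) ℤ → Prop} {G : Type} [Group G] [Finite G]
  {s : XS X Adm 1 G} {ζ : kˣ} {hζ : IsPrimitiveRoot ζ 3} {D : Subgroup G} {E : Tor X}

theorem sub_T (E : Tor X) (B : Set V3) : E.e ζ '' B ⊆ E.T := by
  rintro _ ⟨v, -, rfl⟩
  exact E.e_mem ζ v

theorem sz1 (hζ : IsPrimitiveRoot ζ 3) (E : Tor X) : E.Sz (E.e ζ '' B1) = ∅ := by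
  refine Set.eq_empty_of_forall_notMem fun a ha => ?_
  obtain ⟨⟨t, ht, rfl⟩, h⟩ := (E.mem_Sz_e hζ).1 ha
  exact root1 t ht (h _ ⟨rfl, rfl⟩) (h _ ⟨rfl, rfl⟩)

theorem cen_of {B : Set V3} (hB : ∀ v ∈ B, v ∈ vs s hζ E D) {y : G} (hy : y ∈ Ce D) :
    s.ι y ∈ centralizer (E.e ζ '' B) := by
  rintro _ ⟨v, hv, rfl⟩
  obtain ⟨d, hd, h⟩ := hB v hv
  rw [← h, ← map_mul, ← map_mul, hy d hd]

theorem mem_T1 (hB : ∀ v ∈ B1, v ∈ vs s hζ E D) {y : G} (hy : y ∈ Ce D) (ho : ¬ 3 ∣ orderOf y) : s.ι y ∈ E.T := by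
  rw [← E.cen_eq_T (sz1 hζ E)]
  refine Cn.ppr_ord E.D Nat.prime_three (sub_T E B1) ?_ (mem_top _) (cen_of hB hy) (by rwa [orderOf_injective _ (ι_inj s)])
  rintro _ ⟨v, -, rfl⟩
  exact ⟨1, by rw [pow_one, E.e_pow hζ]⟩

/-- an element which acts on the plane like `w` -/
theorem rp1 (hζ : IsPrimitiveRoot ζ 3) {y : ↥(chevF4.group k)} {n : CoxeterMatrix.F₄.Group}
    (h : ∀ v ∈ B1, y⁻¹ * E.e ζ v * y = E.e ζ (mv (wm X n) v)) : ∃ w, E.Rp w y ∧ (w * n) ^ 3 = 1 := by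
  obtain ⟨w, hw⟩ := E.mem_NN.1 (E6.mem_NN_of_empty E.D (sub_T E B1) (sz1 hζ E) (mem_top y) (by
    rintro _ ⟨v, hv, rfl⟩
    rw [h v hv]
    exact E.e_mem ζ _))
  refine ⟨w, hw, cube1 (X := X) fun v hv => E.e_inj hζ ?_⟩
  rw [map_mul, mv_mul, ← E.conj_e hζ hw, ← h v hv]
  group

theorem rp_pow {w : CoxeterMatrix.F₄.Group} {y : ↥(chevF4.group k)} (h : E.Rp w y) (n : ℕ) : E.Rp (w ^ n) (y ^ n) :=
  Cn.rp_pow E.D h n

/-- no root vanishes on the `3'`-elements of the centraliser -/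
theorem sz_empty (hS : ∀ (E : Tor X) (v : V3), v ∈ vs s hζ E (KK 3 D) → Nm v = 0)
    (hB : ∀ v ∈ B1, v ∈ vs s hζ E D) {h : CoxeterMatrix.F₄.Group} (h1 : ∀ v : V3, mv E.A v = mv (wm X h) v)
    (h2 : ∀ a : Fin 4 → ℤ, E.D.Rt a → gg E a = ac E h a ∨ gg E a = -ac E h a)
    (h3 : wm X h * wm X h + wm X h + 1 = 0) : E.Sz (s.ι '' {y | y ∈ Ce D ∧ ¬ 3 ∣ orderOf y}) = ∅ := by
  refine Set.eq_empty_of_forall_notMem fun a ha => ?_
  have hZ : s.ι '' {y | y ∈ Ce D ∧ ¬ 3 ∣ orderOf y} ⊆ E.T := by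
    rintro _ ⟨y, hy, rfl⟩
    exact mem_T1 hB hy.1 hy.2
  have hF : ∀ z ∈ s.ι '' {y | y ∈ Ce D ∧ ¬ 3 ∣ orderOf y}, X.F z ∈ s.ι '' {y | y ∈ Ce D ∧ ¬ 3 ∣ orderOf y} := by
    rintro _ ⟨y, hy, rfl⟩
    exact ⟨y, hy, (F_ι s y).symm⟩
  have hr1 : E.D.Rt a := ha.1
  have hg : gg E a ∈ E.Sz _ := E.D.g_mem_Sz hZ hF ha
  have hb : ac E h a ∈ E.Sz (s.ι '' {y | y ∈ Ce D ∧ ¬ 3 ∣ orderOf y}) := by
    rcases h2 a hr1 with h4 | h4
    · exact h4 ▸ hg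
    · rw [← neg_neg (ac E h a), ← h4]
      exact E.D.Sz_neg hg
  have hs : ∀ b : Fin 4 → ℤ, b + ac E h b + ac E h (ac E h b) = 0 := fun b => by
    have h4 := congrArg (ac E h (ac E h b) ᵥ* ·) h3
    simpa only [vecMul_add, ← vecMul_vecMul, ac_eq, vecMul_one, vecMul_zero] using h4
  have h4 : ac E (E.rf (ac E h a) * E.rf a) (ac E h a) = a := rot E.D hr1 hs
  obtain ⟨m, hm, h5⟩ := E.exists_rp_cen (v := E.rf (ac E h a) * E.rf a)
    (mul_mem (subset_closure ⟨_, hb, rfl⟩) (subset_closure ⟨_, ha, rfl⟩))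
  obtain ⟨c, hc, E', h6, h7⟩ := E.exists_twist hZ hF h5 hm
  have h8 : mv E'.A (fun i => (E.cor a i : ZMod 3)) = fun i => (E.cor a i : ZMod 3) := by
    rw [h7, mv_mul, h1, mv_cast, mv_cast, ← cor_ac E h hr1, ← cor_ac E _ (ac_rt E h hr1), h4]
  obtain ⟨x, hx⟩ := exists_ι s ((E'.fix_iff hζ).2 h8) (E'.e_pow hζ _) (by norm_num)
  refine nm_cor E hr1 (hS E' _ ⟨x, mem_KK_of fun y hy ho => ι_inj s ?_, hx⟩)
  have h9 : Commute (s.ι y) c := E.cen_le hZ hc _ ⟨y, ⟨hy, ho⟩, rfl⟩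
  rw [map_mul, map_mul, hx, Tor.e, h6]
  exact ((h9.mul_right (E.T_comm (mem_T1 hB hy ho) (E.τ_mem _))).mul_right h9.inv_right).eq

theorem odd_card {S : Subgroup G} {c : ℤ} (h : ∀ x ∈ S, x ^ (c * c + c + 1) = 1) : Odd (Nat.card S) := by
  rw [← Nat.not_even_iff_odd, even_iff_two_dvd]
  intro h1
  obtain ⟨x, hx⟩ := exists_prime_orderOf_dvd_card' 2 h1
  have h2 := orderOf_dvd_iff_zpow_eq_one.2 (h x x.2)
  rw [orderOf_coe, hx] at h2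
  have h3 := Int.even_mul_succ_self c
  rw [even_iff_two_dvd, mul_add, mul_one] at h3
  exact absurd ((dvd_add_right h3).1 h2) (by norm_num)

/-- **the totally singular plane** -/
theorem sing (B : Blk) (hr : 3 ≠ r) {M : Ideal AlgInt} {b : Set (IrrCharacter G)} (H : Two 3 M b D)
    (hG : commutator G = ⊤) (hP : IsPGroup 3 D) (h3 : ∀ d ∈ D, d ^ 3 = 1)
    (hS : ∀ (E : Tor X) (v : V3), v ∈ vs s hζ E (KK 3 D) → Nm v = 0) (hB : ∀ v ∈ B1, v ∈ vs s hζ E D) : False := by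
  obtain ⟨h, c, hA, h1, h2⟩ := eps hr E
  rcases fix1 (X := X) (w := h) (fun v hv => (h1 v).symm.trans (fix_of_mem_vs s hζ (hB v hv))) with rfl | ⟨h4, h5⟩
  · obtain ⟨x, hx⟩ := exists_ι s ((E.fix_iff hζ (v := ![1, 0, 0, 0])).2 (by rw [h1, map_one, mv_one])) (E.e_pow hζ _)
      (by norm_num)
    refine absurd (hS E _ ⟨x, mem_KK_of fun y hy ho => ι_inj s ?_, hx⟩) (by decide)
    rw [map_mul, map_mul, hx, E.T_comm (mem_T1 hB hy ho) (E.e_mem ζ _)]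
  have hT : ∀ d ∈ D, s.ι d ∈ E.T := fun d hd =>
    E6.mem_T_of_cop E.D (by
      rintro _ ⟨y, hy, rfl⟩
      exact mem_T1 hB hy.1 hy.2) (sz_empty hS hB h1 h2 h4) (mem_top _) (by
      rintro _ ⟨y, hy, rfl⟩
      rw [← map_mul, ← map_mul, hy.1 d hd]) (n := 3) (by norm_num) (by
      rintro _ ⟨y, hy, rfl⟩
      exact ⟨orderOf y, (Nat.prime_three.coprime_iff_not_dvd.2 hy.2).symm, by rw [← map_pow, pow_orderOf_eq_one, map_one]⟩)
      (by rw [← map_pow, h3 d hd, map_one]; exact one_mem _)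
  have hle : E.T.comap s.ι ≤ Ce D := fun x hx d hd => ι_inj s (by rw [map_mul, map_mul, E.T_comm (hT d hd) hx])
  have h6 : ∀ d : D, ∃ v ∈ B1, s.ι d = E.e ζ v := fun d => by
    obtain ⟨v, hv⟩ := E.exists_e hζ (hT d d.2) (by rw [← map_pow, h3 d d.2, map_one])
    exact ⟨v, h5 v ((h1 v).symm.trans (fix_of_mem_vs s hζ ⟨d, d.2, hv.symm⟩)), hv.symm⟩
  choose f hf1 hf2 using h6
  have h9 := card_nine hP H.nc (fun d => (f d 0, f d 2)) fun d d' h => Subtype.ext (ι_inj s (by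
    rw [hf2, hf2, tv_inj (u := f d) (v := f d') (by
      simp only [tv, (hf1 d).1, (hf1 d).2, (hf1 d').1, (hf1 d').2, (Prod.mk.inj h).1, (Prod.mk.inj h).2])]))
  obtain ⟨θ, hθ⟩ := B.can0 G 3 M b D H.hM H.hb H.hD fun d hd => hle (hT d hd)
  obtain ⟨t, ht, h7⟩ := B.neg G 3 M b D θ H hθ (.inr h9)
  obtain ⟨n, hn⟩ := exists_neg X
  obtain ⟨w, hw, h8⟩ := rp1 hζ (E := E) (y := s.ι t) (n := n) fun v hv => by
    obtain ⟨d, hd, h8⟩ := hB v hv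
    have h10 : t⁻¹ * d * t = d⁻¹ := by
      have h11 := h7 _ (inv_mem hd)
      rw [inv_inv] at h11
      conv_lhs => rw [← h11]
      group
    rw [← h8, ← map_inv, ← map_mul, ← map_mul, h10, map_inv, h8, hn, ← E.e_neg hζ, ← neg_one_smul ℤ (1 : Matrix _ _ ℤ),
      smul_mv, mv_one, Int.cast_neg, Int.cast_one, neg_one_smul]
  have h10 : wm X (w ^ 3) = -1 := by
    have h11 := congrArg (wm X) h8
    rw [map_pow, map_mul, hn, map_one, mul_neg, mul_one, Odd.neg_pow (by decide)] at h11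
    rw [map_pow, neg_eq_iff_eq_neg.1 h11]
  have hc : ∀ y ∈ Ce D, ∃ w, E.Rp w (s.ι y) ∧ w ^ 3 = 1 := fun y hy => by
    obtain ⟨w, h11, h12⟩ := rp1 hζ (E := E) (y := s.ι y) (n := 1) fun v hv => by
      rw [map_one, mv_one, mul_assoc, cen_of hB hy _ ⟨v, hv, rfl⟩, inv_mul_cancel_left]
    exact ⟨w, h11, by rwa [mul_one] at h12⟩
  refine B.false_of_kr H hG hθ fun y hy ho => hθ.kr_of_real hle (fun y hy x hx => ?_) (odd_card (c := c) fun x hx => ?_)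
    (fun y hy => ⟨3, by decide, 1, one_mem _, fun x hx => ι_inj s ?_⟩) (fun x hx => ?_) (mem_T1 hB hy ho)
  · obtain ⟨w, h11, -⟩ := hc y hy
    rw [mem_comap, map_mul, map_mul, map_inv]
    exact E.D.conj_mem_T ⟨w, h11⟩ hx
  · obtain ⟨a, ha⟩ := E.mem_T.1 hx
    have h11 : mon E.A a = a := E.fix_τ.1 (by rw [ha, F_ι])
    have h12 : E.A * E.A + c • E.A + (c * c) • 1 = 0 := by
      rw [hA, smul_mul_smul_comm, smul_smul, ← smul_add, ← smul_add, h4, smul_zero]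
    have h13 := congrArg (mon · a) h12
    simp only [mon_add, mon_mul, mon_zsmul, h11, mon_one] at h13
    have h14 : mon (0 : Matrix (Fin 4) (Fin 4) ℤ) a = 1 := funext fun i => chr_zero a
    refine ι_inj s ?_
    rw [map_zpow, ← ha, ← map_zpow, map_one, ← map_one E.τ, ← h14, ← h13, _root_.zpow_add, _root_.zpow_add, _root_.zpow_one]
    congr 1
    ac_rfl
  · obtain ⟨w, h11, h12⟩ := hc y hy
    have h13 := rp_pow h11 3
    rw [h12, E.rp_one_iff] at h13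
    rw [one_mul, inv_one, mul_one, map_mul, map_mul, map_inv, map_pow, E.T_comm h13 hx, mul_inv_cancel_right]
  · obtain ⟨a, ha⟩ := E.mem_T.1 hx
    have h11 : t ^ 3 * x * (t ^ 3)⁻¹ = x⁻¹ := ι_inj s (by
      rw [map_mul, map_mul, map_inv, map_pow, map_inv, ← ha, E.conj_τ (rp_pow hw 3), h10, mon_neg, mon_one, map_inv])
    rw [← h11]
    exact (pow_mem ht 3).2 x

end Cfsg.Agent.TO.F4
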